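import Mathlib
import Groth.Agent.Lib.Helper24.NLFlat.CotInj

/-!
# helper24 — NLFlat/CotFlat: for `S` flat over `R` and the base-changed presentation on the same
variables, `S' ⊗ I/I² → I'/I'²` is bijective, hence `NL(G) ⊗ S' → NL(G')` is an isomorphism.
-/

set_option autoImplicit false
universe u

open TensorProduct Algebra Algebra.Extension MvPolynomial CategoryTheory

namespace Groth.Agent.Lib.Helper24.NLFlat

section Poly

variable {R S R' : Type u} [CommRing R] [CommRing S] [Algebra R S] [CommRing R'] [Algebra R R']
  {ι : Type u} [Module.Flat R S]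

attribute [local instance] MvPolynomial.algebraMvPolynomial

/-- If `R[x]/I` is flat over `R` then `R'[x] ⊗_{R[x]} I → R'[x] ⊗_{R[x]} R[x]` is injective. -/
lemma lTensor_injective_of_flat_quotient (I : Ideal (MvPolynomial ι R))
    (f : MvPolynomial ι R →ₐ[R] S) (hf : Function.Surjective f)
    (hI : ∀ y, y ∈ I ↔ f y = 0) :
    Function.Injective (AlgebraTensorModule.lTensor (MvPolynomial ι R') (MvPolynomial ι R')
      (I.subtype) : MvPolynomial ι R' ⊗[MvPolynomial ι R] I →
        MvPolynomial ι R' ⊗[MvPolynomial ι R] MvPolynomial ι R) := by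
  haveI : Algebra.IsPushout R R' (MvPolynomial ι R) (MvPolynomial ι R') :=
    Algebra.IsPushout.symm inferInstance
  let cI := Algebra.IsPushout.cancelBaseChange R R' (MvPolynomial ι R) (MvPolynomial ι R') I
  let cP := Algebra.IsPushout.cancelBaseChange R R' (MvPolynomial ι R) (MvPolynomial ι R')
    (MvPolynomial ι R)
  let j : I →ₗ[R] MvPolynomial ι R := I.subtype.restrictScalars R
  have h1 : Function.Injective (j.lTensor R') := by
    refine LinearMap.lTensor_injective_of_exact_of_flat f.toLinearMap hf j
      (Submodule.injective_subtype I) ?_ R'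
    intro y
    constructor
    · intro hy
      exact ⟨⟨y, (hI y).2 hy⟩, rfl⟩
    · rintro ⟨x, rfl⟩
      exact (hI x.1).1 x.2
  have key : ∀ y : R' ⊗[R] I,
      AlgebraTensorModule.lTensor (MvPolynomial ι R') (MvPolynomial ι R') (I.subtype)
        (cI.symm y) = cP.symm (j.lTensor R' y) := by
    intro y
    induction y using TensorProduct.induction_on with
    | zero => rw [LinearEquiv.map_zero, LinearMap.map_zero, LinearMap.map_zero, LinearEquiv.map_zero]
    | tmul s m =>
      rw [Algebra.IsPushout.cancelBaseChange_symm_tmul, LinearMap.lTensor_tmul,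
        Algebra.IsPushout.cancelBaseChange_symm_tmul, AlgebraTensorModule.lTensor_tmul]
      rfl
    | add a b ha hb =>
      rw [LinearEquiv.map_add, LinearMap.map_add, ha, hb, LinearMap.map_add, LinearEquiv.map_add]
  intro x x' hxx'
  have hx : x = cI.symm (cI x) := (cI.symm_apply_apply x).symm
  have hx' : x' = cI.symm (cI x') := (cI.symm_apply_apply x').symm
  rw [hx, hx', key, key] at hxx'
  have := h1 (cP.symm.injective hxx')
  exact cI.injective this

end Poly

section SameVars

variable {R S R' S' : Type u} [CommRing R] [CommRing S] [Algebra R S]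
  [CommRing R'] [CommRing S'] [Algebra R' S'] [Algebra R R'] [Algebra S S'] [Algebra R S']
  [IsScalarTower R R' S'] [IsScalarTower R S S']
variable {ι : Type u} (G : Generators R S ι) (G' : Generators R' S' ι)
  (h : ∀ i, G'.val i = algebraMap S S' (G.val i))

open Groth.Agent.Lib.Helper23.NL

attribute [local instance] MvPolynomial.algebraMvPolynomial

variable [Module.Flat R S]

include G G' h in
lemma sameVars_tensor_injective :
    letI : Algebra G.toExtension.Ring G'.toExtension.Ring :=
      (NLCx.sameVarsHom G G' h).toExtensionHom.toRingHom.toAlgebra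
    Function.Injective (AlgebraTensorModule.lTensor G'.toExtension.Ring G'.toExtension.Ring
      (G.toExtension.ker.subtype)) := by
  have e : (NLCx.sameVarsHom G G' h).toExtensionHom.toRingHom.toAlgebra =
      (MvPolynomial.algebraMvPolynomial : Algebra (MvPolynomial ι R) (MvPolynomial ι R')) := by
    apply Algebra.algebra_ext
    intro r
    show (NLCx.sameVarsHom G G' h).toExtensionHom.toRingHom r = _
    rw [sameVars_toRingHom_eq]
    rfl
  rw [e]
  refine lTensor_injective_of_flat_quotient (R' := R') (G.toExtension.ker : Ideal (MvPolynomial ι R))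
    (aeval (R := R) G.val) G.aeval_val_surjective ?_
  intro y
  rw [← Generators.algebraMap_apply G y]
  exact RingHom.mem_ker

variable [Algebra.IsPushout R R' S S']

theorem cotangent_bijective_of_flat_left :
    Function.Bijective (LinearMap.liftBaseChange S'
      (Cotangent.map (NLCx.sameVarsHom G G' h).toExtensionHom)) := by
  refine ⟨?_, cotangent_surjective G G' h⟩
  apply cotangent_injective_of_tensor_injective _ (sameVars_tensor_injective G G' h)
  intro y hy
  have h1 : algebraMap G'.toExtension.Ring S' y = 0 := hy
  have hy' : y ∈ RingHom.ker (aeval (R := R') G'.val) :=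
    RingHom.mem_ker.mpr ((Generators.algebraMap_apply G' y).symm.trans h1)
  have hmem := ker_le_map G G' h hy'
  rw [Ideal.map] at hmem ⊢
  refine Ideal.span_mono ?_ hmem
  rintro _ ⟨x, hx, rfl⟩
  exact ⟨x, RingHom.mem_ker.mpr ((Generators.algebraMap_apply G x).trans hx), rfl⟩

/-- **Base change of a flat algebra**: for the base-changed presentation on the same variables,
the base change map of naive cotangent complexes is an isomorphism of complexes. -/
theorem isIso_bcMap_sameVars_of_flat_left :
    IsIso (NLCx.bcMap (S' := S') (NLCx.sameVarsHom G G' h).toExtensionHom) :=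
  isIso_bcMap_of_bijective _ (cotangent_bijective_of_flat_left G G' h)
    (cotangentSpace_bijective G G' h)

end SameVars

end Groth.Agent.Lib.Helper24.NLFlat
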