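import Mathlib
import Groth.Prelude.Def_SheafNL
import Groth.Agent.Lib.Helper16.LDer3

set_option autoImplicit false
universe u

open CategoryTheory CategoryTheory.Limits TensorProduct

namespace Groth.Agent.Lib.Helper24.NLFlat

variable {S S' : Type u} [CommRing S] [CommRing S'] [Algebra S S']

open ChangeOfRings

/-- the identity of `S'` as an `S`-linear equivalence between the two `S`-module structures. -/
noncomputable def idEquiv :
    S' ≃ₗ[S] ((ModuleCat.restrictScalars (algebraMap S S')).obj (ModuleCat.of S' S')) where
  toFun x := x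
  invFun x := x
  left_inv _ := rfl
  right_inv _ := rfl
  map_add' _ _ := rfl
  map_smul' r x := by
    show r • x = algebraMap S S' r * x
    rw [Algebra.smul_def]

/-- the additive identification of the two models of the base change of a module -/
noncomputable def extAddEquiv (M : Type u) [AddCommGroup M] [Module S M] :
    S' ⊗[S] M ≃+
      ((ModuleCat.extendScalars.{u, u, u} (algebraMap S S')).obj (ModuleCat.of S M)) :=
  (TensorProduct.congr (idEquiv (S := S) (S' := S')) (LinearEquiv.refl S M)).toAddEquiv

lemma extAddEquiv_tmul (M : Type u) [AddCommGroup M] [Module S M] (s : S') (m : M) :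
    extAddEquiv M (s ⊗ₜ[S] m) = s ⊗ₜ[S, algebraMap S S'] m := rfl

/-- identification of the two models of the base change of a module -/
noncomputable def extEquiv (M : Type u) [AddCommGroup M] [Module S M] :
    S' ⊗[S] M ≃ₗ[S']
      ((ModuleCat.extendScalars.{u, u, u} (algebraMap S S')).obj (ModuleCat.of S M)) :=
  (extAddEquiv M).toLinearEquiv (by
    intro t x
    induction x using TensorProduct.induction_on with
    | zero => rw [smul_zero, map_zero, smul_zero]
    | tmul s m =>
      rw [TensorProduct.smul_tmul', extAddEquiv_tmul, extAddEquiv_tmul]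
      rfl
    | add a b ha hb => rw [smul_add, map_add, map_add, smul_add, ha, hb])

lemma extEquiv_tmul (M : Type u) [AddCommGroup M] [Module S M] (s : S') (m : M) :
    extEquiv M (s ⊗ₜ[S] m) = s ⊗ₜ[S, algebraMap S S'] m := rfl

/-- `extEquiv` as a morphism of `ModuleCat S'`. -/
noncomputable def θ (M : Type u) [AddCommGroup M] [Module S M] :
    ModuleCat.of S' (S' ⊗[S] M) ⟶
      (ModuleCat.extendScalars.{u, u, u} (algebraMap S S')).obj (ModuleCat.of S M) :=
  ModuleCat.ofHom
    (Y := ((ModuleCat.extendScalars.{u, u, u} (algebraMap S S')).obj (ModuleCat.of S M)))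
    (extEquiv (S' := S') M).toLinearMap

instance (M : Type u) [AddCommGroup M] [Module S M] : IsIso (θ (S := S) (S' := S') M) :=
  (ConcreteCategory.isIso_iff_bijective _).mpr (extEquiv (S' := S') M).bijective

/-- naturality -/
lemma θ_naturality {M N : Type u} [AddCommGroup M] [Module S M] [AddCommGroup N]
    [Module S N] (d : M →ₗ[S] N) :
    θ (S' := S') M ≫
      (ModuleCat.extendScalars.{u, u, u} (algebraMap S S')).map (ModuleCat.ofHom d) =
    ModuleCat.ofHom (d.baseChange S') ≫ θ (S' := S') N := by
  unfold θ
  ext x
  induction x using TensorProduct.induction_on with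
  | zero => simp
  | tmul s m => rfl
  | add a b ha hb => simp only [map_add, ha, hb]

lemma comm_aux {M N : Type u} [AddCommGroup M] [Module S M] [AddCommGroup N]
    [Module S N] (d : M →ₗ[S] N) {Y₀ Y₁ : ModuleCat.{u} S} (i₀ : Y₀ ≅ ModuleCat.of S M)
    (i₁ : Y₁ ≅ ModuleCat.of S N) :
    (θ (S' := S') M ≫ (ModuleCat.extendScalars.{u, u, u} (algebraMap S S')).map i₀.inv) ≫
      (ModuleCat.extendScalars.{u, u, u} (algebraMap S S')).map
        (i₀.hom ≫ ModuleCat.ofHom d ≫ i₁.inv) =
    ModuleCat.ofHom (d.baseChange S') ≫ θ (S' := S') N ≫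
      (ModuleCat.extendScalars.{u, u, u} (algebraMap S S')).map i₁.inv := by
  rw [Category.assoc, ← Functor.map_comp, Iso.inv_hom_id_assoc, Functor.map_comp,
    ← Category.assoc, θ_naturality, Category.assoc]

section Cx

variable {R : Type u} [CommRing R] [Algebra R S]

open Groth.Agent.Lib.Helper16.LDer

attribute [local instance] HasDerivedCategory.standard

/-- the comparison `NL(P) ⊗_S S' → ext (NL(P))` between the two models of the tensored complex. -/
noncomputable def bcToExt (P : Algebra.Extension.{u} R S) :
    NLCx.bcCx P S' ⟶ (extCx (algebraMap S S')).obj (NLCx.cx P) :=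
  HomologicalComplex.mkHomFromDouble _ (by decide)
    (θ (S' := S') P.Cotangent ≫
      (ModuleCat.extendScalars.{u, u, u} (algebraMap S S')).map
        (HomologicalComplex.doubleXIso₀ (ModuleCat.ofHom P.cotangentComplex) _).inv)
    (θ (S' := S') P.CotangentSpace ≫
      (ModuleCat.extendScalars.{u, u, u} (algebraMap S S')).map
        (HomologicalComplex.doubleXIso₁ (ModuleCat.ofHom P.cotangentComplex) _ (by decide)).inv)
    (by
      dsimp only [NLCx.cx]
      show (θ (S' := S') P.Cotangent ≫ (ModuleCat.extendScalars.{u, u, u} (algebraMap S S')).map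
          (HomologicalComplex.doubleXIso₀ (ModuleCat.ofHom P.cotangentComplex) _).inv) ≫
        (ModuleCat.extendScalars.{u, u, u} (algebraMap S S')).map
          ((HomologicalComplex.double (ModuleCat.ofHom P.cotangentComplex) _).d (-1) 0) = _
      rw [HomologicalComplex.double_d _ _ (by decide)]
      exact comm_aux _ _ _)
    (fun k hk => by
      have hz : IsZero ((NLCx.cx P).X k) :=
        HomologicalComplex.isZero_double_X (ModuleCat.ofHom P.cotangentComplex) _ k
          (by simp at hk; omega) (by simp at hk; omega)
      exact (Functor.map_isZero (ModuleCat.extendScalars.{u, u, u} (algebraMap S S')) hz).eq_of_tgt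
        _ _)

lemma bcToExt_f_neg_one (P : Algebra.Extension.{u} R S) :
    (bcToExt (S' := S') P).f (-1) =
      (HomologicalComplex.doubleXIso₀ (ModuleCat.ofHom (P.cotangentComplex.baseChange S')) _).hom ≫
        (θ (S' := S') P.Cotangent ≫
          (ModuleCat.extendScalars.{u, u, u} (algebraMap S S')).map
            (HomologicalComplex.doubleXIso₀ (ModuleCat.ofHom P.cotangentComplex) _).inv) :=
  HomologicalComplex.mkHomFromDouble_f₀ _ _ _ _ _ _

lemma bcToExt_f_zero (P : Algebra.Extension.{u} R S) :
    (bcToExt (S' := S') P).f 0 =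
      (HomologicalComplex.doubleXIso₁ (ModuleCat.ofHom (P.cotangentComplex.baseChange S')) _
          (by decide)).hom ≫
        (θ (S' := S') P.CotangentSpace ≫
          (ModuleCat.extendScalars.{u, u, u} (algebraMap S S')).map
            (HomologicalComplex.doubleXIso₁ (ModuleCat.ofHom P.cotangentComplex) _
              (by decide)).inv) :=
  HomologicalComplex.mkHomFromDouble_f₁ _ _ _ _ _ _

instance isIso_bcToExt (P : Algebra.Extension.{u} R S) : IsIso (bcToExt (S' := S') P) := by
  have : ∀ n : ℤ, IsIso ((bcToExt (S' := S') P).f n) := by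
    intro n
    by_cases hn1 : n = -1
    · subst hn1
      rw [bcToExt_f_neg_one]
      refine @IsIso.comp_isIso _ _ _ _ _ _ _ (Iso.isIso_hom _)
        (@IsIso.comp_isIso _ _ _ _ _ _ _ ?_ (Functor.map_isIso _ _))
      exact (ConcreteCategory.isIso_iff_bijective _).mpr (extEquiv (S' := S') P.Cotangent).bijective
    · by_cases hn0 : n = 0
      · subst hn0
        rw [bcToExt_f_zero]
        refine @IsIso.comp_isIso _ _ _ _ _ _ _ (Iso.isIso_hom _)
          (@IsIso.comp_isIso _ _ _ _ _ _ _ ?_ (Functor.map_isIso _ _))
        exact (ConcreteCategory.isIso_iff_bijective _).mpr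
          (extEquiv (S' := S') P.CotangentSpace).bijective
      · have z1 : IsZero ((NLCx.bcCx P S').X n) :=
          HomologicalComplex.isZero_double_X _ _ n hn1 hn0
        have z2 : IsZero ((NLCx.cx P).X n) :=
          HomologicalComplex.isZero_double_X _ _ n hn1 hn0
        have z3 : IsZero (((extCx (algebraMap S S')).obj (NLCx.cx P)).X n) :=
          Functor.map_isZero (ModuleCat.extendScalars.{u, u, u} (algebraMap S S')) z2
        exact isIso_of_source_target_iso_zero _ z1.isoZero z3.isoZero
  exact HomologicalComplex.Hom.isIso_of_components _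

end Cx

end Groth.Agent.Lib.Helper24.NLFlat
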