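import Mathlib
import Groth.Agent.Lib.Helper16.TorAmp7
import Groth.Agent.Lib.Helper16.FlatAcyc2
import Groth.Agent.Lib.helper11.GenFlatBasic
import Groth.Agent.Lib.Helper8.DRing2

/-!
# helper24 — NLFlat/FlatCone: a two-term complex `C = [C⁻¹ → C⁰]` with `C⁰` flat and tor amplitude
in `[-1, 0]` has `C⁻¹` flat.  (Through the mapping cone of a projective resolution.)
-/

set_option autoImplicit false
universe u

open CategoryTheory CategoryTheory.Limits DerivedCategory

attribute [local instance] HasDerivedCategory.standard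

namespace Groth.Agent.Lib.Helper24.NLFlat

open Groth.Agent.Lib.Helper16.TorAmp Groth.Agent.Lib.Helper16.FlatKer
  Groth.Agent.Lib.Helper16.LDer Groth.Agent.Lib.Helper16.PC

variable {R : Type u} [CommRing R]

/-- `K₃ → K₂ → K₁ → K₀ → 0` exact, `K₀` flat and `coker (K₃ → K₂)` flat: then `K₁` is flat. -/
lemma flat_of_four_term {K₃ K₂ K₁ K₀ : Type u} [AddCommGroup K₃] [AddCommGroup K₂]
    [AddCommGroup K₁] [AddCommGroup K₀] [Module R K₃] [Module R K₂] [Module R K₁] [Module R K₀]
    (d₃ : K₃ →ₗ[R] K₂) (d₂ : K₂ →ₗ[R] K₁) (d₁ : K₁ →ₗ[R] K₀)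
    (h2 : Function.Exact d₃ d₂) (h1 : Function.Exact d₂ d₁) (hs : Function.Surjective d₁)
    [Module.Flat R K₀] (hQ : Module.Flat R (K₂ ⧸ LinearMap.range d₃)) : Module.Flat R K₁ := by
  have hk : LinearMap.range d₃ = LinearMap.ker d₂ := (LinearMap.exact_iff.1 h2).symm
  let f : (K₂ ⧸ LinearMap.range d₃) →ₗ[R] K₁ := (LinearMap.range d₃).liftQ d₂ (le_of_eq hk)
  have hf : Function.Injective f := by
    rw [← LinearMap.ker_eq_bot]
    exact Submodule.ker_liftQ_eq_bot' _ d₂ hk
  have hfd : Function.Exact f d₁ := by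
    rw [LinearMap.exact_iff, Submodule.range_liftQ]
    exact LinearMap.exact_iff.1 h1
  exact Groth.Agent.Lib.helper11.GenFlat.flat_of_exact_flat_flat f d₁ hf hs hfd

/-- in an exact complex with a zero term after `l`, flat term at `l` and flat cokernel at `j`,
the term at `k` is flat (`i → j → k → l → m`). -/
lemma flat_X_of_exact (K : DRing.Cx R) (i j k l m : ℤ) (hij : i + 1 = j) (hjk : j + 1 = k)
    (hkl : k + 1 = l) (hlm : l + 1 = m) (hex : ∀ n, K.ExactAt n) (hz : IsZero (K.X m))
    (hl : Module.Flat R (K.X l))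
    (hQ : Module.Flat R (K.X j ⧸ LinearMap.range (K.d i j).hom)) : Module.Flat R (K.X k) := by
  have e2 := (exactAt_iff_function_exact K i j k hij hjk).1 (hex j)
  have e1 := (exactAt_iff_function_exact K j k l hjk hkl).1 (hex k)
  have e0 := (exactAt_iff_function_exact K k l m hkl hlm).1 (hex l)
  have hs : Function.Surjective (K.d k l).hom := by
    intro y
    have : (K.d l m).hom y = 0 := by
      have := ModuleCat.subsingleton_of_isZero hz
      exact Subsingleton.elim _ _
    exact (e0 y).1 this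
  exact flat_of_four_term (K.d i j).hom (K.d j k).hom (K.d k l).hom e2 e1 hs hQ

/-- the flatness statement. -/
theorem flat_X_neg_one_of_torAmp (C E : DRing.Cx R) (p : E ⟶ C) (hp : QuasiIso p)
    (hE : DRing.VanishesAbove E 0) (hproj : ∀ i, Module.Projective R (E.X i))
    (hC : ∀ i : ℤ, i ≠ -1 → i ≠ 0 → IsZero (C.X i)) (hC0 : Module.Flat R (C.X 0))
    (hamp : DRing.HasTorAmplitudeIn R (-1) 0 (DRing.toD C)) : Module.Flat R (C.X (-1)) := by
  have hEflat : DRing.TermwiseFlat E := termwiseFlat_of_projective E hproj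
  have hp' : IsIso (Q.map p) := by
    rw [isIso_Q_map_iff_quasiIso]
    exact hp
  have hampE : DRing.HasTorAmplitudeIn R (-1) 0 (DRing.toD E) :=
    hasTorAmplitudeIn_of_iso (asIso (Q.map p)).symm _ _ hamp
  set K := CochainComplex.mappingCone p with hK
  have hKex : ∀ n, K.ExactAt n := fun n =>
    Groth.Agent.Lib.Helper8.DRing2.exactAt_mappingCone_of_quasiIso p n
  have hflK : ∀ n : ℤ, Module.Flat R (E.X (n + 1)) → Module.Flat R (C.X n) →
      Module.Flat R (K.X n) := by
    intro n h1 h2
    have h1' : flatProp R (E.X (n + 1)) := h1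
    have h2' : flatProp R (C.X n) := h2
    exact (flatProp R).prop_of_iso
      (HomologicalComplex.homotopyCofiber.XIsoBiprod p n (n + 1) (by simp)).symm
      (flatProp_biprod _ _ h1' h2')
  have hzero_flat : ∀ (X : ModuleCat.{u} R), IsZero X → Module.Flat R X := fun X hX =>
    flatProp_zero X hX
  -- the cokernel at `-2`
  have hQ : Module.Flat R (K.X (-2) ⧸ LinearMap.range (K.d (-2 - 1) (-2)).hom) := by
    refine flat_coker_of_exactAt_tensCx K (-2) ?_ (hKex _) (fun M => ?_)
    · refine hflK (-2) (hEflat _) (hzero_flat _ (hC _ (by norm_num) (by norm_num)))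
    · refine exactAt_tensCx_mappingCone M p (-2 - 1) ?_ ?_
      · exact HomologicalComplex.ExactAt.of_isZero
          (Functor.map_isZero (MonoidalCategory.tensorRight M) (hC _ (by norm_num) (by norm_num)))
      · exact exactAt_tensCx_of_torAmp E 0 hE hEflat (-1) 0 hampE M _ (Or.inl (by norm_num))
  have hK1 : Module.Flat R (K.X (-1)) := by
    refine flat_X_of_exact K (-2 - 1) (-2) (-1) 0 1 (by norm_num) (by norm_num) (by norm_num)
      (by norm_num) hKex ?_ ?_ hQ
    · exact Groth.Agent.Lib.Helper8.DRing2.isZero_mappingCone_X p 1 (hE _ (by norm_num))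
        (hC _ (by norm_num) (by norm_num))
    · exact hflK 0 (hzero_flat _ (hE _ (by norm_num))) hC0
  -- `C.X (-1)` is a retract of `K.X (-1)`
  have hret : (CochainComplex.mappingCone.inr p).f (-1) ≫
      (CochainComplex.mappingCone.snd p).v (-1) (-1) (add_zero _) = 𝟙 _ :=
    CochainComplex.mappingCone.inr_f_snd_v p (-1)
  refine Module.Flat.of_retract ((CochainComplex.mappingCone.inr p).f (-1)).hom
    ((CochainComplex.mappingCone.snd p).v (-1) (-1) (add_zero _)).hom ?_
  rw [← ModuleCat.hom_comp, hret]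
  rfl

end Groth.Agent.Lib.Helper24.NLFlat
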