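import Mathlib
import Groth.Agent.Lib.Helper24.NLFlat.CotFlat

/-!
# helper24 — NLFlat/HEquiv: for `S` flat over `R` and a pushout square, the canonical map
`NL_{S/R} ⊗_S S' → NL_{S'/R'}` (presentations on all elements) is a homotopy equivalence, hence a
quasi-isomorphism.  (Assembly copied from helper23's `exists_homotopyEquiv_bcMapSelf`, with the
isomorphism for the same-variables presentation as a hypothesis.)
-/

set_option autoImplicit false
universe u

open TensorProduct Algebra Algebra.Extension CategoryTheory CategoryTheory.Limits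

namespace Groth.Agent.Lib.Helper24.NLFlat

open Groth.Agent.Lib.Helper23.NL

section Final

variable (R S R' S' : Type u) [CommRing R] [CommRing S] [Algebra R S]
  [CommRing R'] [CommRing S'] [Algebra R' S'] [Algebra R R'] [Algebra S S'] [Algebra R S']
  [IsScalarTower R R' S'] [IsScalarTower R S S'] [Algebra.IsPushout R R' S S']

theorem exists_homotopyEquiv_bcMapSelf_of_isIso
    (hiso : IsIso (NLCx.bcMap (S' := S') (NLCx.sameVarsHom (Generators.self R S)
      (gensBC R S R' S') (gensBC_val R S R' S')).toExtensionHom)) :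
    ∃ e : HomotopyEquiv (NLCx.bcCx (Generators.self R S).toExtension S')
        (NLCx.cx (Generators.self R' S').toExtension),
      e.hom = NLCx.bcMapSelf R S R' S' := by
  set G := Generators.self R S with hG
  set G₁ := gensBC R S R' S' with hG₁
  let sv : G.toExtension.Hom G₁.toExtension :=
    (NLCx.sameVarsHom G G₁ (gensBC_val R S R' S')).toExtensionHom
  let d₀ : G.toExtension.Hom (Generators.self R' S').toExtension :=
    (G.defaultHom (Generators.self R' S')).toExtensionHom
  let k' : G₁.toExtension.Hom (Generators.self R' S').toExtension :=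
    (G₁.defaultHom (Generators.self R' S')).toExtensionHom
  let k : (Generators.self R' S').toExtension.Hom G₁.toExtension :=
    ((Generators.self R' S').defaultHom G₁).toExtensionHom
  haveI : IsIso (NLCx.bcMap (S' := S') sv) := hiso
  refine ⟨⟨NLCx.bcMap (S' := S') d₀, NLCx.map k ≫ inv (NLCx.bcMap (S' := S') sv), ?_, ?_⟩, rfl⟩
  · -- hom ≫ inv ~ 𝟙
    have e1 : NLCx.bcMap (S' := S') d₀ ≫ NLCx.map k ≫ inv (NLCx.bcMap (S' := S') sv) =
        NLCx.bcMap (S' := S') (k.comp d₀) ≫ inv (NLCx.bcMap (S' := S') sv) := by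
      rw [← Category.assoc, bcMap_comp_map]
    have e2 : NLCx.bcMap (S' := S') sv ≫ inv (NLCx.bcMap (S' := S') sv) = 𝟙 _ :=
      IsIso.hom_inv_id _
    exact (Homotopy.ofEq e1).trans
      (((bcMapHomotopy (k.comp d₀) sv).compRight _).trans (Homotopy.ofEq e2))
  · -- inv ≫ hom ~ 𝟙
    have hB : Homotopy (NLCx.bcMap (S' := S') d₀) (NLCx.bcMap (S' := S') sv ≫ NLCx.map k') :=
      (bcMapHomotopy d₀ (k'.comp sv)).trans (Homotopy.ofEq (bcMap_comp_map sv k').symm)
    have e3 : (NLCx.map k ≫ inv (NLCx.bcMap (S' := S') sv)) ≫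
        (NLCx.bcMap (S' := S') sv ≫ NLCx.map k') = NLCx.map (k'.comp k) := by
      simp only [Category.assoc, IsIso.inv_hom_id_assoc]
      exact map_comp_map k k'
    have hC : Homotopy (NLCx.map (k'.comp k)) (𝟙 _) :=
      (mapHomotopy (k'.comp k) (Extension.Hom.id _)).trans (Homotopy.ofEq (map_id _))
    exact ((hB.compLeft _).trans (Homotopy.ofEq e3)).trans hC

variable [Module.Flat R S]

theorem exists_homotopyEquiv_bcMapSelf_of_flat_left :
    ∃ e : HomotopyEquiv (NLCx.bcCx (Generators.self R S).toExtension S')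
        (NLCx.cx (Generators.self R' S').toExtension),
      e.hom = NLCx.bcMapSelf R S R' S' :=
  exists_homotopyEquiv_bcMapSelf_of_isIso R S R' S'
    (isIso_bcMap_sameVars_of_flat_left (Generators.self R S) (gensBC R S R' S')
      (gensBC_val R S R' S'))

theorem quasiIso_bcMapSelf_of_flat_left : QuasiIso (NLCx.bcMapSelf R S R' S') := by
  obtain ⟨e, he⟩ := exists_homotopyEquiv_bcMapSelf_of_flat_left R S R' S'
  rw [← he]
  infer_instance

end Final

end Groth.Agent.Lib.Helper24.NLFlat
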