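import Mathlib
import Groth.Agent.Lib.Helper24.NLFlat.HEquiv
import Groth.Agent.Lib.Helper24.NLFlat.FlatCone
import Groth.Agent.Lib.Helper24.NLFlat.ExtDouble

/-!
# helper24 — NLFlat/Derived: if `B` is flat over `A`, `B' = B ⊗_A A'` and `NL_{B/A}` has tor
amplitude in `[-1, 0]`, then `NL_{B/A} ⊗^L_B B' ≅ NL_{B'/A'}` in `D(B')`.
-/

set_option autoImplicit false
universe u

open CategoryTheory CategoryTheory.Limits DerivedCategory TensorProduct

attribute [local instance] HasDerivedCategory.standard

namespace Groth.Agent.Lib.Helper24.NLFlat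

open Groth.Agent.Lib.Helper16.TorAmp Groth.Agent.Lib.Helper16.FlatKer
  Groth.Agent.Lib.Helper16.LDer Groth.Agent.Lib.Helper16.PC Groth.Agent.Lib.Helper16.FlatAcyc

section

variable (A B : Type u) [CommRing A] [CommRing B] [Algebra A B]

lemma isZero_NLcx_X (i : ℤ) (h1 : i ≠ -1) (h0 : i ≠ 0) : IsZero ((LCI.NLcx A B).X i) :=
  HomologicalComplex.isZero_double_X _ _ i h1 h0

lemma flat_NLcx_X_zero : Module.Flat B ((LCI.NLcx A B).X 0) := by
  haveI : Module.Free B (Algebra.Generators.self A B).toExtension.CotangentSpace :=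
    Module.Free.of_basis (Algebra.Generators.cotangentSpaceBasis _)
  exact Module.Flat.of_linearEquiv (HomologicalComplex.doubleXIso₁
    (ModuleCat.ofHom (Algebra.Generators.self A B).toExtension.cotangentComplex) _
    (by decide)).toLinearEquiv

/-- the terms of the naive cotangent complex are flat if it has tor amplitude in `[-1, 0]`. -/
theorem termwiseFlat_NLcx (hamp : DRing.HasTorAmplitudeIn B (-1) 0 (LCI.NL A B)) :
    DRing.TermwiseFlat (LCI.NLcx A B) := by
  set C := LCI.NLcx A B with hC
  have hLE : (Q.obj C).IsLE 0 := isLE_of_torAmp _ (-1) 0 hamp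
  obtain ⟨E, p, hE, hproj, hp⟩ := exists_projective_resolution C 0 hLE
  have hproj' : ∀ i, Module.Projective B (E.X i) := fun i =>
    haveI := hproj i
    ModuleCat.projective_of_module_projective (E.X i)
  have h1 : Module.Flat B (C.X (-1)) :=
    flat_X_neg_one_of_torAmp C E p hp hE hproj' (isZero_NLcx_X A B) (flat_NLcx_X_zero A B) hamp
  intro i
  by_cases hi1 : i = -1
  · subst hi1
    exact h1
  · by_cases hi0 : i = 0
    · subst hi0
      exact flat_NLcx_X_zero A B
    · exact flatProp_zero _ (isZero_NLcx_X A B i hi1 hi0)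

end

section Main

variable (A B A' B' : Type u) [CommRing A] [CommRing B] [CommRing A'] [CommRing B']
  [Algebra A B] [Algebra A' B'] [Algebra A A'] [Algebra B B'] [Algebra A B']
  [IsScalarTower A A' B'] [IsScalarTower A B B'] [Algebra.IsPushout A A' B B'] [Module.Flat A B]

theorem nonempty_LBaseChange_NL_iso (hamp : DRing.HasTorAmplitudeIn B (-1) 0 (LCI.NL A B))
    [DRing.HasLBaseChange (algebraMap B B')] :
    Nonempty ((DRing.LBaseChange (algebraMap B B')).obj (LCI.NL A B) ≅ LCI.NL A' B') := by
  set φ := algebraMap B B' with hφ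
  set C := LCI.NLcx A B with hC
  have hCfl : DRing.TermwiseFlat C := termwiseFlat_NLcx A B hamp
  have hCab : DRing.VanishesAbove C 0 := fun i hi =>
    isZero_NLcx_X A B i (by omega) (by omega)
  have hLE : (Q.obj C).IsLE 0 := isLE_of_torAmp _ (-1) 0 hamp
  obtain ⟨E, f, hE, hproj, hf⟩ := exists_projective_resolution C 0 hLE
  have hproj' : ∀ i, Module.Projective B (E.X i) := fun i =>
    haveI := hproj i
    ModuleCat.projective_of_module_projective (E.X i)
  have hEflat : DRing.TermwiseFlat E := fun i => by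
    have := hproj' i
    infer_instance
  have h1 : IsIso (Q.map ((extCx φ).map f)) := isIso_Q_map_ext φ f hf 0 hE hCab hEflat hCfl
  have h2 : IsIso (Q.map f) := by
    rw [isIso_Q_map_iff_quasiIso]
    exact hf
  have h3 : IsIso (Q.map (bcToExt (S' := B') (Algebra.Generators.self A B).toExtension)) :=
    inferInstance
  have h4 : IsIso (Q.map (NLCx.bcMapSelf A B A' B')) := by
    rw [isIso_Q_map_iff_quasiIso]
    exact quasiIso_bcMapSelf_of_flat_left A B A' B'
  let e1 := (DRing.LBaseChange φ).mapIso (asIso (Q.map f)).symm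
  let e2 := lBaseChangeIso' φ E 0 hE hproj'
  let e3 := asIso (Q.map ((extCx φ).map f))
  let e4 := (asIso (Q.map (bcToExt (S' := B') (Algebra.Generators.self A B).toExtension))).symm
  let e5 := @asIso _ _ _ _ (Q.map (NLCx.bcMapSelf A B A' B')) h4
  exact ⟨e1 ≪≫ e2 ≪≫ e3 ≪≫ e4 ≪≫ e5⟩

end Main

end Groth.Agent.Lib.Helper24.NLFlat
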