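import Mathlib
import Groth.Agent.Lib.Helper23.NL.Homotopy

/-!
# helper24 — NLFlat/H1Src: functoriality of `H^{-1}(NL(P) ⊗_S S')` in the presentation `P`
(source side), and the kernel of `bcH1Map` is independent of the presentations.
-/

set_option autoImplicit false
universe u

open TensorProduct Algebra Algebra.Extension

namespace Groth.Agent.Lib.Helper24.NLFlat

open Groth.Agent.Lib.Helper23.NL

section Src

variable {R S : Type u} [CommRing R] [CommRing S] [Algebra R S]
variable (S' : Type u) [CommRing S'] [Algebra S S']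
variable {P₀ P P₁ : Extension.{u} R S}

/-- the tensored conormal map of a morphism of extensions of `S` over `R`. -/
noncomputable def cSrc (h : P₀.Hom P) : S' ⊗[S] P₀.Cotangent →ₗ[S'] S' ⊗[S] P.Cotangent :=
  (Cotangent.map h).baseChange S'

lemma cSrc_tmul (h : P₀.Hom P) (a : S') (m : P₀.Cotangent) :
    cSrc S' h (a ⊗ₜ m) = a ⊗ₜ Cotangent.map h m := rfl

lemma cSrc_comp (h : P₀.Hom P) (k : P.Hom P₁) (x : S' ⊗[S] P₀.Cotangent) :
    cSrc S' (k.comp h) x = cSrc S' k (cSrc S' h x) := by
  induction x using TensorProduct.induction_on with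
  | zero => simp
  | add a b ha hb => simp only [map_add, ha, hb]
  | tmul a m =>
    rw [cSrc_tmul, cSrc_tmul, cSrc_tmul]
    congr 1
    exact congr($(Cotangent.map_comp P₁ h k) m)

lemma cSrc_id (x : S' ⊗[S] P.Cotangent) : cSrc S' (Extension.Hom.id P) x = x := by
  induction x using TensorProduct.induction_on with
  | zero => simp
  | add a b ha hb => simp only [map_add, ha, hb]
  | tmul a m =>
    rw [cSrc_tmul, Cotangent.map_id]
    rfl

lemma cSrc_sub (h k : P₀.Hom P) (x : S' ⊗[S] P₀.Cotangent) :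
    cSrc S' h x - cSrc S' k x =
      (h.sub k).baseChange S' (P₀.cotangentComplex.baseChange S' x) := by
  induction x using TensorProduct.induction_on with
  | zero => simp
  | add a b ha hb =>
    simp only [map_add]
    rw [← ha, ← hb]
    abel
  | tmul a m =>
    rw [cSrc_tmul, cSrc_tmul, LinearMap.baseChange_tmul, LinearMap.baseChange_tmul, ← tmul_sub]
    congr 1
    exact congr($(Cotangent.map_sub_map h k) m)

lemma cSrc_comm (h : P₀.Hom P) (x : S' ⊗[S] P₀.Cotangent) :
    P.cotangentComplex.baseChange S' (cSrc S' h x) =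
      (CotangentSpace.map h).baseChange S' (P₀.cotangentComplex.baseChange S' x) := by
  induction x using TensorProduct.induction_on with
  | zero => simp
  | add a b ha hb => simp only [map_add, ha, hb]
  | tmul a m =>
    rw [cSrc_tmul, LinearMap.baseChange_tmul, LinearMap.baseChange_tmul,
      LinearMap.baseChange_tmul, CotangentSpace.map_cotangentComplex]

/-- the induced map on `H^{-1}` of the tensored complexes. -/
noncomputable def hSrc (h : P₀.Hom P) : NLCx.bcH1 P₀ S' →ₗ[S'] NLCx.bcH1 P S' :=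
  (cSrc S' h).restrict (p := NLCx.bcH1 P₀ S') (q := NLCx.bcH1 P S') (fun x hx => by
    simp only [NLCx.bcH1, LinearMap.mem_ker] at hx ⊢
    rw [cSrc_comm, hx, map_zero])

lemma hSrc_val (h : P₀.Hom P) (x : NLCx.bcH1 P₀ S') : (hSrc S' h x).1 = cSrc S' h x.1 := rfl

lemma hSrc_comp_eq_id (h : P₀.Hom P) (k : P.Hom P₀) (x : NLCx.bcH1 P₀ S') :
    hSrc S' k (hSrc S' h x) = x := by
  apply Subtype.ext
  rw [hSrc_val, hSrc_val, ← cSrc_comp]
  have hx : P₀.cotangentComplex.baseChange S' x.1 = 0 := x.2
  have := cSrc_sub S' (k.comp h) (Extension.Hom.id P₀) x.1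
  rw [hx, map_zero, cSrc_id, sub_eq_zero] at this
  exact this

/-- `hSrc` as an equivalence. -/
noncomputable def hSrcEquiv (h : P₀.Hom P) (k : P.Hom P₀) :
    NLCx.bcH1 P₀ S' ≃ₗ[S'] NLCx.bcH1 P S' :=
  LinearEquiv.ofLinearMap (hSrc S' h) (hSrc S' k)
    (LinearMap.ext (hSrc_comp_eq_id S' k h)) (LinearMap.ext (hSrc_comp_eq_id S' h k))

end Src

section Ker

variable {R S R' S' : Type u} [CommRing R] [CommRing S] [Algebra R S]
  [CommRing R'] [CommRing S'] [Algebra R' S'] [Algebra R R'] [Algebra S S'] [Algebra R S']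
  [IsScalarTower R R' S'] [IsScalarTower R S S']
variable {P₀ P : Extension.{u} R S} {P' P₀' : Extension.{u} R' S'}

lemma bcH1Map_comp_src (f : P.Hom P') (h : P₀.Hom P) (x : NLCx.bcH1 P₀ S') :
    NLCx.bcH1Map (S' := S') (f.comp h) x = NLCx.bcH1Map f (hSrc S' h x) := by
  apply Subtype.ext
  obtain ⟨x, hx⟩ := x
  change LinearMap.liftBaseChange S' (Cotangent.map (f.comp h)) x =
    LinearMap.liftBaseChange S' (Cotangent.map f) (cSrc S' h x)
  clear hx
  induction x using TensorProduct.induction_on with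
  | zero => simp
  | add a b ha hb => simp only [map_add, ha, hb]
  | tmul a m =>
    rw [cSrc_tmul, LinearMap.liftBaseChange_tmul, LinearMap.liftBaseChange_tmul]
    congr 1
    exact congr($(Cotangent.map_comp P' h f) m)

/-- the kernel of `bcH1Map` does not depend on the presentations. -/
theorem nonempty_ker_bcH1Map_equiv (d₀ : P₀.Hom P₀') (φ : P.Hom P')
    (h : P₀.Hom P) (k : P.Hom P₀) (t : P'.Hom P₀') (s : P₀'.Hom P') :
    Nonempty (LinearMap.ker (NLCx.bcH1Map (S' := S') d₀) ≃ₗ[S']
      LinearMap.ker (NLCx.bcH1Map (S' := S') φ)) := by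
  have key : ∀ x : NLCx.bcH1 P₀ S',
      NLCx.bcH1Map (S' := S') d₀ x = H1Cotangent.map t (NLCx.bcH1Map φ (hSrc S' h x)) := by
    intro x
    rw [bcH1Map_eq d₀ ((t.comp φ).comp h), bcH1Map_comp_src, bcH1Map_comp]
  have hinj : Function.Injective (H1Cotangent.map t) := (H1Cotangent.equiv t s).injective
  have hker : LinearMap.ker (NLCx.bcH1Map (S' := S') d₀) =
      (LinearMap.ker (NLCx.bcH1Map (S' := S') φ)).comap (hSrcEquiv S' h k).toLinearMap := by
    ext x
    simp only [LinearMap.mem_ker, Submodule.mem_comap]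
    rw [key]
    constructor
    · intro hx
      exact hinj (hx.trans (map_zero _).symm)
    · intro hx
      have : NLCx.bcH1Map φ (hSrc S' h x) = 0 := hx
      rw [this, map_zero]
  rw [hker]
  exact ⟨LinearEquiv.ofSubmodule' (hSrcEquiv S' h k) _⟩

end Ker

end Groth.Agent.Lib.Helper24.NLFlat
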