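import Mathlib
import Groth.Agent.Lib.Helper24.NLFlat.H1Src
import Groth.Agent.Lib.Helper5.LciJ
import Groth.Agent.Lib.Helper5.CotLoc

/-!
# helper24 — NLFlat/LciKer: for a cocartesian square with `A → B` and `A' → B'` local complete
intersections, the kernel of `H^{-1}(NL_{B/A} ⊗_B B') → H^{-1}(NL_{B'/A'})` is finite projective.
-/

set_option autoImplicit false
universe u

open TensorProduct Algebra Algebra.Extension MvPolynomial

namespace Groth.Agent.Lib.Helper24.NLFlat

open Groth.Agent.Lib.Helper23.NL

section Split

variable {R M N : Type u} [CommRing R] [AddCommGroup M] [AddCommGroup N] [Module R M]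
  [Module R N]

/-- the kernel of a surjection from a finite projective module onto a projective module is finite
projective. -/
lemma ker_finite_projective (c : M →ₗ[R] N) (hc : Function.Surjective c) [Module.Finite R M]
    [Module.Projective R M] [Module.Projective R N] :
    Module.Finite R (LinearMap.ker c) ∧ Module.Projective R (LinearMap.ker c) := by
  obtain ⟨s, hs⟩ := Module.projective_lifting_property c LinearMap.id hc
  have hcs : ∀ y, c (s y) = y := fun y => congr($hs y)
  let r : M →ₗ[R] LinearMap.ker c :=
    (LinearMap.id - s ∘ₗ c).codRestrict (LinearMap.ker c) (fun x => by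
      rw [LinearMap.mem_ker, LinearMap.sub_apply, LinearMap.id_apply, LinearMap.comp_apply,
        map_sub, hcs, sub_self])
  have hr : r ∘ₗ (LinearMap.ker c).subtype = LinearMap.id := by
    ext x
    have hx : c x.1 = 0 := x.2
    simp only [r, LinearMap.comp_apply, Submodule.subtype_apply, LinearMap.codRestrict_apply,
      LinearMap.sub_apply, LinearMap.id_apply, hx, map_zero, sub_zero]
  have hrs : Function.Surjective r := fun y => ⟨y.1, congr($hr y)⟩
  exact ⟨Module.Finite.of_surjective r hrs, Module.Projective.of_split _ r hr⟩

end Split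

section SameVars

variable {A B A' B' : Type u} [CommRing A] [CommRing B] [Algebra A B]
  [CommRing A'] [CommRing B'] [Algebra A' B'] [Algebra A A'] [Algebra B B'] [Algebra A B']
  [IsScalarTower A A' B'] [IsScalarTower A B B'] [Algebra.IsPushout A A' B B']
variable {ι : Type u} (G : Generators A B ι) (G' : Generators A' B' ι)
  (h : ∀ i, G'.val i = algebraMap B B' (G.val i))

theorem ker_bcH1Map_sameVars_finite_projective
    (hK : LCI.IsKoszulRegularIdeal G.toExtension.ker)
    (hK' : LCI.IsKoszulRegularIdeal G'.toExtension.ker) :
    Module.Finite B' (LinearMap.ker (NLCx.bcH1Map (S' := B')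
        (NLCx.sameVarsHom G G' h).toExtensionHom)) ∧
      Module.Projective B' (LinearMap.ker (NLCx.bcH1Map (S' := B')
        (NLCx.sameVarsHom G G' h).toExtensionHom)) := by
  set φ := (NLCx.sameVarsHom G G' h).toExtensionHom with hφ
  obtain ⟨hf, hp⟩ := Groth.Agent.Lib.Helper5.CotLoc.extension_cotangent_finite_projective G.toExtension hK
  obtain ⟨hf', hp'⟩ :=
    Groth.Agent.Lib.Helper5.CotLoc.extension_cotangent_finite_projective G'.toExtension hK'
  set c := LinearMap.liftBaseChange B' (Cotangent.map φ) with hc
  have hcsurj : Function.Surjective c := cotangent_surjective G G' h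
  have hcsinj : Function.Injective (LinearMap.liftBaseChange B' (CotangentSpace.map φ)) :=
    (cotangentSpace_bijective G G' h).1
  have key : G'.toExtension.cotangentComplex ∘ₗ c =
      LinearMap.liftBaseChange B' (CotangentSpace.map φ) ∘ₗ
        G.toExtension.cotangentComplex.baseChange B' := by
    apply TensorProduct.AlgebraTensorModule.ext
    intro a m
    simp only [hc, LinearMap.coe_comp, Function.comp_apply, LinearMap.liftBaseChange_tmul,
      LinearMap.baseChange_tmul, map_smul]
    rw [CotangentSpace.map_cotangentComplex]
  have hd : ∀ y, c y = 0 → G.toExtension.cotangentComplex.baseChange B' y = 0 := by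
    intro y hy
    apply hcsinj
    have := congr($key y)
    simp only [LinearMap.coe_comp, Function.comp_apply, hy, map_zero] at this
    rw [map_zero]
    exact this.symm
  obtain ⟨hkf, hkp⟩ := ker_finite_projective c hcsurj
  -- the comparison map
  let F : LinearMap.ker (NLCx.bcH1Map (S' := B') φ) →ₗ[B'] LinearMap.ker c :=
    ((NLCx.bcH1 G.toExtension B').subtype ∘ₗ
      (LinearMap.ker (NLCx.bcH1Map (S' := B') φ)).subtype).codRestrict (LinearMap.ker c)
      (fun x => by
        have hx : NLCx.bcH1Map (S' := B') φ x.1 = 0 := x.2
        exact congr_arg Subtype.val hx)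
  have hFinj : Function.Injective F := by
    intro x y hxy
    apply Subtype.ext
    apply Subtype.ext
    have h1 : (F x).1 = (F y).1 := congr_arg Subtype.val hxy
    exact h1
  have hFsurj : Function.Surjective F := by
    intro y
    have hy : c y.1 = 0 := y.2
    refine ⟨⟨⟨y.1, hd y.1 hy⟩, ?_⟩, Subtype.ext rfl⟩
    rw [LinearMap.mem_ker]
    apply Subtype.ext
    exact hy
  let E := LinearEquiv.ofBijective F ⟨hFinj, hFsurj⟩
  exact ⟨Module.Finite.equiv E.symm, Module.Projective.of_equiv E.symm⟩

end SameVars

end Groth.Agent.Lib.Helper24.NLFlat
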