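import Mathlib
import Groth.Agent.Lib.Helper24.NLFlat.LciKer

/-!
# helper24 — NLFlat/LciMain: assembly for S7223.
-/

set_option autoImplicit false
universe u

open TensorProduct Algebra Algebra.Extension MvPolynomial

namespace Groth.Agent.Lib.Helper24.NLFlat

open Groth.Agent.Lib.Helper23.NL Groth.Agent.Lib.Helper5.Lci

section

variable (A B A' B' : Type u) [CommRing A] [CommRing B] [Algebra A B]
  [CommRing A'] [CommRing B'] [Algebra A' B'] [Algebra A A'] [Algebra B B'] [Algebra A B']
  [IsScalarTower A A' B'] [IsScalarTower A B B'] [Algebra.IsPushout A A' B B']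

variable {A B A' B'} in
include A in
/-- the images of generators of `B` over `A` generate the pushout `B'` over `A'`. -/
lemma aeval_algebraMap_val_surjective {ι : Type u} (G : Generators A B ι) :
    Function.Surjective (aeval (R := A') (fun i : ι => algebraMap B B' (G.val i))) := by
  intro y
  have hbc : IsBaseChange A' (IsScalarTower.toAlgHom A B B').toLinearMap :=
    Algebra.IsPushout.out
  change y ∈ (aeval (R := A') (fun i : ι => algebraMap B B' (G.val i))).range
  refine hbc.inductionOn y
    (fun y => y ∈ (aeval (R := A') (fun i : ι => algebraMap B B' (G.val i))).range)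
    (zero_mem _) ?_ ?_ ?_
  · intro b
    obtain ⟨p, rfl⟩ := G.aeval_val_surjective b
    refine ⟨MvPolynomial.map (algebraMap A A') p, ?_⟩
    change aeval (fun i : ι => algebraMap B B' (G.val i)) (MvPolynomial.map (algebraMap A A') p) =
      algebraMap B B' (aeval G.val p)
    induction p using MvPolynomial.induction_on with
    | C a =>
      simp only [map_C, aeval_C]
      rw [← IsScalarTower.algebraMap_apply, ← IsScalarTower.algebraMap_apply]
    | add p q hp hq => simp only [map_add, hp, hq]
    | mul_X p i hp => simp only [map_mul, hp, map_X, aeval_X]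
  · intro r n hn
    exact Subalgebra.smul_mem _ hn r
  · intro a b ha hb
    exact add_mem ha hb

theorem ker_bcH1Map_self_finite_projective (hB : LCI.IsLCI A B) (hB' : LCI.IsLCI A' B') :
    Module.Finite B' (LinearMap.ker (NLCx.bcH1Map
        ((Generators.self A B).defaultHom (Generators.self A' B')).toExtensionHom)) ∧
      Module.Projective B' (LinearMap.ker (NLCx.bcH1Map
        ((Generators.self A B).defaultHom (Generators.self A' B')).toExtensionHom)) := by
  obtain ⟨-, n, f, hf, hKf⟩ := hB
  -- the presentation of `B` on `ULift (Fin n)`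
  let e : MvPolynomial (ULift.{u} (Fin n)) A ≃ₐ[A] MvPolynomial (Fin n) A :=
    MvPolynomial.renameEquiv A Equiv.ulift
  let f' : MvPolynomial (ULift.{u} (Fin n)) A →ₐ[A] B := f.comp e.toAlgHom
  have hf' : Function.Surjective f' := hf.comp e.surjective
  let G : Generators A B (ULift.{u} (Fin n)) := Generators.ofAlgHom f' hf'
  have haevalG : (aeval G.val : MvPolynomial (ULift.{u} (Fin n)) A →ₐ[A] B) = f' := by
    ext j
    simp [G, Generators.ofAlgHom, Generators.ofSurjective]
  have hK : LCI.IsKoszulRegularIdeal G.toExtension.ker := by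
    have h1 := isKoszulRegularIdeal_comap_ringEquiv e.toRingEquiv _ hKf
    have h2 : (RingHom.ker f.toRingHom).comap
        (e.toRingEquiv : MvPolynomial (ULift.{u} (Fin n)) A →+* MvPolynomial (Fin n) A) =
        G.toExtension.ker := by
      ext x
      rw [Ideal.mem_comap, RingHom.mem_ker]
      change f (e x) = 0 ↔ algebraMap G.Ring B x = 0
      rw [Generators.algebraMap_apply, haevalG]
      rfl
    rwa [h2] at h1
  -- the base-changed presentation
  let G' : Generators A' B' (ULift.{u} (Fin n)) :=
    Generators.ofSurjective (fun i => algebraMap B B' (G.val i))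
      (aeval_algebraMap_val_surjective G)
  have hval : ∀ i, G'.val i = algebraMap B B' (G.val i) := fun i => rfl
  let e' : MvPolynomial (ULift.{u} (Fin n)) A' ≃ₐ[A'] MvPolynomial (Fin n) A' :=
    MvPolynomial.renameEquiv A' Equiv.ulift
  let β' : MvPolynomial (Fin n) A' →ₐ[A'] B' := (aeval G'.val).comp e'.symm.toAlgHom
  have hβ' : Function.Surjective β' := G'.aeval_val_surjective.comp e'.symm.surjective
  have hK' : LCI.IsKoszulRegularIdeal G'.toExtension.ker := by
    have h0 := ker_of_isLCI hB' β' hβ'
    have h1 := isKoszulRegularIdeal_comap_ringEquiv e'.toRingEquiv _ h0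
    have h2 : (RingHom.ker β'.toRingHom).comap
        (e'.toRingEquiv : MvPolynomial (ULift.{u} (Fin n)) A' →+* MvPolynomial (Fin n) A') =
        G'.toExtension.ker := by
      ext x
      rw [Ideal.mem_comap, RingHom.mem_ker]
      change aeval G'.val (e'.symm (e' x)) = 0 ↔ algebraMap G'.Ring B' x = 0
      rw [Generators.algebraMap_apply, AlgEquiv.symm_apply_apply]
    rwa [h2] at h1
  obtain ⟨hfin, hproj⟩ := ker_bcH1Map_sameVars_finite_projective G G' hval hK hK'
  obtain ⟨E⟩ := nonempty_ker_bcH1Map_equiv (S' := B')
    ((Generators.self A B).defaultHom (Generators.self A' B')).toExtensionHom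
    (NLCx.sameVarsHom G G' hval).toExtensionHom
    ((Generators.self A B).defaultHom G).toExtensionHom
    (G.defaultHom (Generators.self A B)).toExtensionHom
    (G'.defaultHom (Generators.self A' B')).toExtensionHom
    ((Generators.self A' B').defaultHom G').toExtensionHom
  exact ⟨Module.Finite.equiv E.symm, Module.Projective.of_equiv E.symm⟩

end

end Groth.Agent.Lib.Helper24.NLFlat
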